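import Mathlib.RingTheory.MvPolynomial.Groebner
import Mathlib.LinearAlgebra.LinearIndependent.Lemmas
import Mathlib.LinearAlgebra.Matrix.MvPolynomial
import Mathlib.LinearAlgebra.Matrix.Determinant.Basic
import Mathlib.LinearAlgebra.FreeModule.Basic
import Mathlib.RingTheory.Localization.Away.Basic
import Mathlib.RingTheory.TensorProduct.Free

/-!
# The coordinate rings of `GL_n` and of the stabiliser of a unimodular vector are free

`R` any commutative ring, `f` a polynomial with a unit as leading coefficient for some monomial order: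
`R[x]` has the basis `f ^ k * x ^ a` (`k : ℕ`, `a` not divisible by the leading monomial of `f`), and
`R[x]_f` has the basis `f ^ k * x ^ a` (`k : ℤ`).
-/

set_option autoImplicit false

open MvPolynomial MonomialOrder
open scoped MonomialOrder

namespace Groth.Agent.ResProp.EF.K653.FreeGL

universe u v w

section Basis

variable {σ : Type v} {R : Type u} [CommRing R] (m : MonomialOrder σ) (f : MvPolynomial σ R)

/-- exponents not divisible by the leading exponent of `f` -/
abbrev Std : Type v := {a : σ →₀ ℕ // ¬ m.degree f ≤ a}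

/-- `f ^ k * x ^ a` -/
noncomputable def b (p : ℕ × Std m f) : MvPolynomial σ R := f ^ p.1 * monomial (p.2 : σ →₀ ℕ) 1

/-- its exponent -/
noncomputable def ex (p : ℕ × Std m f) : σ →₀ ℕ := p.1 • m.degree f + (p.2 : σ →₀ ℕ)

theorem ex_injective : Function.Injective (ex m f) := by
  have key : ∀ p q : ℕ × Std m f, p.1 < q.1 → ex m f p ≠ ex m f q := by
    rintro ⟨k, a⟩ ⟨l, c⟩ (hkl : k < l) h
    apply a.2
    obtain ⟨d, rfl⟩ := Nat.exists_eq_add_of_lt hkl
    have h1 : (a : σ →₀ ℕ) = m.degree f + (d • m.degree f + (c : σ →₀ ℕ)) := by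
      have : k • m.degree f + (a : σ →₀ ℕ) = k • m.degree f + (m.degree f + (d • m.degree f + (c : σ →₀ ℕ))) := by
        have h' : k • m.degree f + (a : σ →₀ ℕ) = (k + d + 1) • m.degree f + (c : σ →₀ ℕ) := h
        rw [h', add_smul, add_smul, one_smul]
        abel
      exact add_left_cancel this
    rw [h1]
    exact le_self_add
  intro p q h
  rcases lt_trichotomy p.1 q.1 with h1 | h1 | h1
  · exact absurd h (key p q h1)
  · obtain ⟨k, a⟩ := p
    obtain ⟨l, c⟩ := q
    obtain rfl : k = l := h1
    have h' : k • m.degree f + (a : σ →₀ ℕ) = k • m.degree f + (c : σ →₀ ℕ) := h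
    rw [Prod.mk.injEq]
    exact ⟨rfl, Subtype.ext (add_left_cancel h')⟩
  · exact absurd h.symm (key q p h1)

theorem coeff_b_self (p : ℕ × Std m f) : (b m f p).coeff (ex m f p) = m.leadingCoeff f ^ p.1 := by
  rw [b, ex, coeff_mul_monomial, mul_one, coeff_pow_nsmul_degree]

theorem degree_b_le (p : ℕ × Std m f) : m.degree (b m f p) ≼[m] ex m f p := by
  refine degree_mul_le.trans ?_
  rw [ex, map_add, map_add]
  exact add_le_add (degree_pow_le _) (degree_monomial_le _)

theorem coeff_b_of_lt (p : ℕ × Std m f) {e : σ →₀ ℕ} (h : ex m f p ≺[m] e) : (b m f p).coeff e = 0 :=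
  coeff_eq_zero_of_lt ((degree_b_le m f p).trans_lt h)

variable {f}

theorem linearIndependent_b (hf : IsUnit (m.leadingCoeff f)) : LinearIndependent R (b m f) := by
  rw [linearIndependent_iff]
  intro l hl
  by_contra hne
  have hs : l.support.Nonempty := Finsupp.support_nonempty_iff.2 hne
  obtain ⟨p, hp, hmax⟩ := l.support.exists_max_image (fun p => m.toSyn (ex m f p)) hs
  have h0 : (Finsupp.linearCombination R (b m f) l).coeff (ex m f p) = 0 := by rw [hl, coeff_zero]
  rw [Finsupp.linearCombination_apply, Finsupp.sum, coeff_sum, Finset.sum_eq_single p] at h0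
  · rw [coeff_smul, coeff_b_self, smul_eq_mul] at h0
    exact Finsupp.mem_support_iff.1 hp ((hf.pow p.1).mul_left_eq_zero.1 h0)
  · intro q hq hqp
    rw [coeff_smul]
    have h1 : ex m f q ≺[m] ex m f p :=
      lt_of_le_of_ne (hmax q hq) fun h => hqp (ex_injective m f (m.toSyn.injective h))
    rw [coeff_b_of_lt m f q h1, smul_zero]
  · intro h
    exact absurd hp h

theorem top_le_span_b (hf : IsUnit (m.leadingCoeff f)) (h0 : m.degree f ≠ 0) :
    ⊤ ≤ Submodule.span R (Set.range (b m f)) := by
  have hmul : ∀ g ∈ Submodule.span R (Set.range (b m f)), g * f ∈ Submodule.span R (Set.range (b m f)) := by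
    intro g hg
    induction hg using Submodule.span_induction with
    | mem x hx =>
      obtain ⟨⟨k, a⟩, rfl⟩ := hx
      apply Submodule.subset_span
      refine ⟨⟨k + 1, a⟩, ?_⟩
      simp only [b]
      rw [pow_succ]
      ring
    | zero => rw [zero_mul]; exact zero_mem _
    | add x y _ _ hx hy => rw [add_mul]; exact add_mem hx hy
    | smul r x _ hx => rw [smul_mul_assoc]; exact Submodule.smul_mem _ _ hx
  have hrem : ∀ r : MvPolynomial σ R, (∀ c ∈ r.support, ¬ m.degree f ≤ c) →
      r ∈ Submodule.span R (Set.range (b m f)) := by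
    intro r hr
    rw [r.as_sum]
    refine Submodule.sum_mem _ fun c hc => ?_
    have : monomial c (coeff c r) = coeff c r • b m f (0, ⟨c, hr c hc⟩) := by
      simp only [b, pow_zero, one_mul]
      rw [smul_monomial, smul_eq_mul, mul_one]
    rw [this]
    exact Submodule.smul_mem _ _ (Submodule.subset_span ⟨_, rfl⟩)
  suffices H : ∀ (s : m.syn) (g : MvPolynomial σ R), m.toSyn (m.degree g) = s →
      g ∈ Submodule.span R (Set.range (b m f)) from fun g _ => H _ g rfl
  intro s
  induction s using WellFoundedLT.induction with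
  | ind s ih =>
    intro g hg
    obtain ⟨q, r, hqr, hdeg, hr⟩ := div_single (m := m) hf g
    rw [hqr]
    refine add_mem (hmul q ?_) (hrem r hr)
    by_cases hq : q = 0
    · rw [hq]; exact zero_mem _
    refine ih (m.toSyn (m.degree q)) ?_ q rfl
    rw [← hg]
    refine lt_of_lt_of_le ?_ hdeg
    rw [degree_mul_of_left_mem_nonZeroDivisors (hf.mem_nonZeroDivisors) hq, map_add]
    exact lt_add_of_pos_left _ ((m.toSyn_lt_iff_ne_zero).2 fun h => h0 (m.toSyn.injective (by rw [h, map_zero])))

end Basis

section Loc

variable {σ : Type v} {R : Type u} [CommRing R] (m : MonomialOrder σ) {f : MvPolynomial σ R}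
  {B : Type w} [CommRing B] [Algebra (MvPolynomial σ R) B] [IsLocalization.Away f B]
  [Algebra R B] [IsScalarTower R (MvPolynomial σ R) B]

omit [Algebra R B] [IsScalarTower R (MvPolynomial σ R) B] in
theorem algebraMap_injective (hf : IsUnit (m.leadingCoeff f)) :
    Function.Injective (algebraMap (MvPolynomial σ R) B) := by
  apply IsLocalization.injective (M := Submonoid.powers f)
  rw [Submonoid.powers_le]
  exact mem_nonZeroDivisors_of_leadingCoeff_mem_nonZeroDivisors hf.mem_nonZeroDivisors

variable (f B) in
/-- `f` as a unit of `R[x]_f` -/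
noncomputable def uf : Bˣ := (IsLocalization.Away.algebraMap_isUnit (S := B) f).unit

omit [Algebra R B] [IsScalarTower R (MvPolynomial σ R) B] in
theorem uf_val : ((uf f B : Bˣ) : B) = algebraMap (MvPolynomial σ R) B f := rfl

variable (f B) in
/-- `f ^ k * x ^ a`, `k : ℤ` -/
noncomputable def bB (p : ℤ × Std m f) : B :=
  ((uf f B ^ p.1 : Bˣ) : B) * algebraMap (MvPolynomial σ R) B (monomial (p.2 : σ →₀ ℕ) 1)

/-- multiplication by `f ^ k`, `k : ℤ` -/
noncomputable def mulU (k : ℤ) : B →ₗ[R] B := LinearMap.mulLeft R ((uf f B ^ k : Bˣ) : B)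

omit [IsScalarTower R (MvPolynomial σ R) B] in
theorem mulU_injective (k : ℤ) : Function.Injective (mulU (R := R) (f := f) (B := B) k) := by
  intro x y h
  exact (Units.mul_right_inj (uf f B ^ k)).1 h

omit [IsScalarTower R (MvPolynomial σ R) B] in
theorem bB_eq (N : ℕ) (p : ℕ × Std m f) :
    bB m f B (((p.1 : ℤ) - N), p.2) =
      mulU (R := R) (f := f) (B := B) (-(N : ℤ)) (algebraMap (MvPolynomial σ R) B (b m f p)) := by
  simp only [bB, mulU, b, LinearMap.mulLeft_apply]
  rw [map_mul, map_pow, ← uf_val (f := f) (B := B), ← mul_assoc, ← Units.val_pow_eq_pow_val,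
    ← Units.val_mul, ← zpow_natCast, ← zpow_add, sub_eq_neg_add]

theorem linearIndependent_bB (hf : IsUnit (m.leadingCoeff f)) :
    LinearIndependent R (bB m f B) := by
  have hN : ∀ N : ℕ, LinearIndepOn R (bB m f B) {p : ℤ × Std m f | -(N : ℤ) ≤ p.1} := by
    intro N
    let e : {p : ℤ × Std m f // -(N : ℤ) ≤ p.1} → ℕ × Std m f := fun p => ((p.1.1 + N).toNat, p.1.2)
    have he : Function.Injective e := by
      rintro ⟨⟨k, a⟩, hk⟩ ⟨⟨l, c⟩, hl⟩ h
      simp only [e, Prod.mk.injEq] at h hk hl ⊢
      obtain ⟨h1, h2⟩ := h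
      have : k = l := by omega
      subst this; subst h2; rfl
    have h1 : LinearIndependent R (fun p : {p : ℤ × Std m f // -(N : ℤ) ≤ p.1} =>
        ((mulU (R := R) (f := f) (B := B) (-(N : ℤ))).comp
          (Algebra.linearMap (MvPolynomial σ R) B |>.restrictScalars R)) (b m f (e p))) := by
      apply ((linearIndependent_b m hf).comp e he).map'
      rw [LinearMap.ker_eq_bot]
      exact (mulU_injective _).comp (algebraMap_injective m hf)
    have h2 : (fun p : {p : ℤ × Std m f | -(N : ℤ) ≤ p.1} => bB m f B p) =
        fun p : {p : ℤ × Std m f // -(N : ℤ) ≤ p.1} =>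
        ((mulU (R := R) (f := f) (B := B) (-(N : ℤ))).comp
          (Algebra.linearMap (MvPolynomial σ R) B |>.restrictScalars R)) (b m f (e p)) := by
      funext p
      have h2 := bB_eq (R := R) (B := B) m N (e p)
      have h3 : ((e p).1 : ℤ) - N = p.1.1 := by
        have : -(N : ℤ) ≤ p.1.1 := p.2
        simp only [e]
        omega
      rw [h3] at h2
      exact h2
    rw [LinearIndepOn, h2]
    exact h1
  have hU : (⋃ N : ℕ, {p : ℤ × Std m f | -(N : ℤ) ≤ p.1}) = Set.univ := by
    ext p
    simp only [Set.mem_iUnion, Set.mem_ofPred_eq, Set.mem_univ, iff_true]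
    exact ⟨p.1.natAbs, by omega⟩
  rw [← linearIndepOn_univ_iff, ← hU]
  refine linearIndepOn_iUnion_of_directed ?_ hN
  apply directed_of_isDirected_le
  intro i j hij p hp
  simp only [Set.mem_ofPred_eq] at hp ⊢
  omega

theorem top_le_span_bB (hf : IsUnit (m.leadingCoeff f)) (h0 : m.degree f ≠ 0) :
    ⊤ ≤ Submodule.span R (Set.range (bB m f B)) := by
  intro y _
  obtain ⟨N, g, hg⟩ := IsLocalization.Away.surj f y
  have hy : y = mulU (R := R) (f := f) (B := B) (-(N : ℤ)) (algebraMap (MvPolynomial σ R) B g) := by
    rw [← hg, mulU, LinearMap.mulLeft_apply, ← uf_val (f := f) (B := B), ← Units.val_pow_eq_pow_val, mul_comm,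
      mul_assoc, ← Units.val_mul, ← zpow_natCast, ← zpow_add, add_neg_cancel, zpow_zero,
      Units.val_one, mul_one]
  rw [hy]
  have hgs : g ∈ Submodule.span R (Set.range (b m f)) := top_le_span_b m hf h0 trivial
  clear hy hg
  induction hgs using Submodule.span_induction with
  | mem x hx =>
    obtain ⟨p, rfl⟩ := hx
    rw [← bB_eq]
    exact Submodule.subset_span ⟨_, rfl⟩
  | zero => rw [map_zero, map_zero]; exact zero_mem _
  | add x y _ _ hx hy => rw [map_add, map_add]; exact add_mem hx hy
  | smul r x _ hx =>
    rw [Algebra.smul_def, map_mul, ← IsScalarTower.algebraMap_apply, ← Algebra.smul_def, map_smul]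
    exact Submodule.smul_mem _ _ hx

include m in
/-- **(F0)** the localisation of a polynomial ring at a polynomial whose leading coefficient (for some
monomial order) is a unit is a free module over the base ring. -/
theorem free_away (hf : IsUnit (m.leadingCoeff f)) : Module.Free R B := by
  by_cases h0 : m.degree f = 0
  · have hfu : IsUnit f := by
      rw [eq_C_of_degree_eq_zero h0]
      exact hf.map C
    have e : MvPolynomial σ R ≃ₗ[MvPolynomial σ R] B :=
      (IsLocalization.atUnit (MvPolynomial σ R) B f hfu).toLinearEquiv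
    exact Module.Free.of_equiv (e.restrictScalars R)
  · exact Module.Free.of_basis (Module.Basis.mk (linearIndependent_bB m hf) (top_le_span_bB m hf h0))

end Loc

section Det

variable {σ : Type v} {R : Type u} [CommRing R] {n : Type w} [Fintype n] [DecidableEq n]
  (e : n → n → σ)

/-- a matrix whose entries are variables -/
noncomputable def vm : Matrix n n (MvPolynomial σ R) := Matrix.of fun i j => X (e i j)

/-- the exponent of the product along a permutation -/
noncomputable def mu (π : Equiv.Perm n) : σ →₀ ℕ := ∑ i, Finsupp.single (e (π i) i) 1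

theorem det_vm : (vm (R := R) e).det = ∑ π : Equiv.Perm n, monomial (mu e π) ((Equiv.Perm.sign π : ℤ) : R) := by
  rw [Matrix.det_apply]
  refine Finset.sum_congr rfl fun π _ => ?_
  have h : ∏ i, vm (R := R) e (π i) i = monomial (mu e π) 1 := by
    rw [mu, monomial_sum_one]
    rfl
  rw [h, Units.smul_def, ← Int.cast_smul_eq_zsmul R, smul_monomial, smul_eq_mul, mul_one]

variable {e}

omit [DecidableEq n] in
theorem mu_injective (he : Function.Injective fun p : n × n => e p.1 p.2) : Function.Injective (mu e) := by
  intro π τ h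
  ext i
  have h1 : mu e π (e (π i) i) ≠ 0 := by
    rw [mu, Finsupp.finsetSum_apply]
    intro h0
    have := (Finset.sum_eq_zero_iff.1 h0) i (Finset.mem_univ i)
    rw [Finsupp.single_eq_same] at this
    exact one_ne_zero this
  rw [h, mu, Finsupp.finsetSum_apply] at h1
  obtain ⟨j, -, hj⟩ := Finset.exists_ne_zero_of_sum_ne_zero h1
  have h2 : e (τ j) j = e (π i) i := by
    by_contra hne
    exact hj (Finsupp.single_eq_of_ne (Ne.symm hne))
  have h3 : ((τ j, j) : n × n) = (π i, i) := he h2
  rw [Prod.mk.injEq] at h3
  rw [← h3.1, h3.2]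

theorem coeff_det_vm (he : Function.Injective fun p : n × n => e p.1 p.2) (π : Equiv.Perm n) :
    (vm (R := R) e).det.coeff (mu e π) = ((Equiv.Perm.sign π : ℤ) : R) := by
  classical
  rw [det_vm, coeff_sum, Finset.sum_eq_single π]
  · rw [coeff_monomial, if_pos rfl]
  · intro τ _ h
    rw [coeff_monomial, if_neg fun h' => h (mu_injective he h')]
  · intro h
    exact absurd (Finset.mem_univ π) h

/-- **(F1)** the leading coefficient of the determinant of a matrix of distinct variables is a unit. -/
theorem isUnit_leadingCoeff_det (m : MonomialOrder σ) (he : Function.Injective fun p : n × n => e p.1 p.2) :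
    IsUnit (m.leadingCoeff (vm (R := R) e).det) := by
  classical
  nontriviality R
  have hu : ∀ π : Equiv.Perm n, IsUnit (((Equiv.Perm.sign π : ℤ) : R)) := fun π =>
    ((Equiv.Perm.sign π).isUnit.map (Int.castRingHom R))
  have h0 : (vm (R := R) e).det ≠ 0 := by
    intro h
    have h1 := coeff_det_vm (R := R) he 1
    rw [h, coeff_zero] at h1
    exact (hu 1).ne_zero h1.symm
  have h1 : m.degree (vm (R := R) e).det ∈ (vm (R := R) e).det.support := m.degree_mem_support h0
  have h2 : ∃ π, m.degree (vm (R := R) e).det = mu e π := by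
    by_contra hcon
    push Not at hcon
    rw [mem_support_iff] at h1
    generalize m.degree (vm (R := R) e).det = d at h1 hcon
    apply h1
    rw [det_vm (R := R) e, coeff_sum]
    refine Finset.sum_eq_zero fun π _ => ?_
    rw [coeff_monomial, if_neg]
    exact fun h => hcon π h.symm
  obtain ⟨π, hπ⟩ := h2
  rw [leadingCoeff, hπ, coeff_det_vm he π]
  exact hu π

end Det

section GL

variable {σ : Type v} {R : Type u} [CommRing R] {n : Type w} [Fintype n] [DecidableEq n]

/-- **(F1')** a polynomial ring in finitely many variables, localised at the determinant of a square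
matrix of distinct variables, is free over the base ring. -/
theorem free_away_det [Finite σ] {e : n → n → σ} (he : Function.Injective fun p : n × n => e p.1 p.2)
    (B : Type*) [CommRing B] [Algebra (MvPolynomial σ R) B]
    [IsLocalization.Away (vm (R := R) e).det B] [Algebra R B] [IsScalarTower R (MvPolynomial σ R) B] :
    Module.Free R B := by
  classical
  obtain ⟨k, ⟨eq⟩⟩ := Finite.exists_equiv_fin σ
  let _ : LinearOrder σ := LinearOrder.lift' eq eq.injective
  exact free_away MonomialOrder.lex (isUnit_leadingCoeff_det _ he)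

/-- **(F2)** `O(GL_n)` is free over the base ring. -/
theorem free_GL (B : Type*) [CommRing B] [Algebra (MvPolynomial (n × n) R) B]
    [IsLocalization.Away (Matrix.det (Matrix.mvPolynomialX n n R)) B] [Algebra R B]
    [IsScalarTower R (MvPolynomial (n × n) R) B] : Module.Free R B := by
  have : IsLocalization.Away (vm (R := R) (fun i j : n => (i, j))).det B :=
    inferInstanceAs (IsLocalization.Away (Matrix.det (Matrix.mvPolynomialX n n R)) B)
  exact free_away_det (R := R) (e := fun i j : n => (i, j)) (fun p q h => h) B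

end GL

end Groth.Agent.ResProp.EF.K653.FreeGL
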