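import Groth.Prelude.Def_GLin5
import Groth.Agent.ResProp.EF.K653.FreeGL

/-!
# `CoordGrp.GLn n k` (Prelude) is a free `k`-module, `k` any commutative ring
-/

set_option autoImplicit false

open MvPolynomial

namespace Groth.Agent.ResProp.EF.K653.FreeGLn

universe u

variable (n : ℕ) (k : Type u) [CommRing k]

/-- the polynomial ring localised at the determinant -/
abbrev L : Type u := Localization.Away (Matrix.det (Matrix.mvPolynomialX (Fin n) (Fin n) k))

/-- the inverse of the determinant -/
noncomputable def dinv : L n k :=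
  IsLocalization.Away.invSelf (Matrix.det (Matrix.mvPolynomialX (Fin n) (Fin n) k))

/-- the generic matrix over `L` -/
noncomputable def gm : Matrix (Fin n) (Fin n) (L n k) :=
  (algebraMap (MvPolynomial (Fin n × Fin n) k) (L n k)).mapMatrix (Matrix.mvPolynomialX (Fin n) (Fin n) k)

theorem gm_apply (i j : Fin n) :
    gm n k i j = algebraMap (MvPolynomial (Fin n × Fin n) k) (L n k) (X (i, j)) := rfl

theorem det_mul_dinv : (gm n k).det * dinv n k = 1 := by
  rw [gm, ← RingHom.map_det]
  exact IsLocalization.Away.mul_invSelf _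

/-- `O(GL_n) → k[x_ij]_det` -/
noncomputable def toL : CoordGrp.GLn n k →ₐ[k] L n k :=
  CoordGrp.GLn.pt n k (gm n k) (dinv n k) (det_mul_dinv n k)

/-- `k[x_ij] → O(GL_n)` -/
noncomputable def polyTo : MvPolynomial (Fin n × Fin n) k →ₐ[k] CoordGrp.GLn n k :=
  aeval fun p : Fin n × Fin n => CoordGrp.GLn.X p.1 p.2

theorem polyTo_det : polyTo n k (Matrix.det (Matrix.mvPolynomialX (Fin n) (Fin n) k)) = CoordGrp.GLn.det := by
  rw [AlgHom.map_det, CoordGrp.GLn.det_eq]
  congr 1
  ext i j
  simp [polyTo, Matrix.mvPolynomialX, CoordGrp.GLn.genMat]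

/-- `k[x_ij]_det → O(GL_n)` -/
noncomputable def ofL : L n k →ₐ[k] CoordGrp.GLn n k :=
  IsLocalization.liftAlgHom (M := Submonoid.powers (Matrix.det (Matrix.mvPolynomialX (Fin n) (Fin n) k)))
    (f := polyTo n k) (by
      rintro ⟨_, m, rfl⟩
      change IsUnit (polyTo n k (_ ^ m))
      rw [map_pow, polyTo_det]
      exact (IsUnit.of_mul_eq_one _ CoordGrp.GLn.det_mul_Dinv).pow m)

theorem ofL_algebraMap (x : MvPolynomial (Fin n × Fin n) k) : ofL n k (algebraMap _ _ x) = polyTo n k x :=
  IsLocalization.lift_eq _ _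

theorem ofL_toL : (ofL n k).comp (toL n k) = AlgHom.id k _ := by
  apply CoordGrp.GLn.algHom_ext
  · intro i j
    rw [AlgHom.comp_apply, toL, CoordGrp.GLn.pt_X, gm_apply, ofL_algebraMap, polyTo, aeval_X]
    rfl
  · rw [AlgHom.comp_apply, toL, CoordGrp.GLn.pt_Dinv, AlgHom.id_apply]
    have h1 : (CoordGrp.GLn.det : CoordGrp.GLn n k) * ofL n k (dinv n k) = 1 := by
      rw [← polyTo_det, ← ofL_algebraMap, ← map_mul, dinv, IsLocalization.Away.mul_invSelf, map_one]
    calc ofL n k (dinv n k) = CoordGrp.GLn.Dinv * CoordGrp.GLn.det * ofL n k (dinv n k) := by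
          rw [CoordGrp.GLn.Dinv_mul_det, one_mul]
      _ = CoordGrp.GLn.Dinv := by rw [mul_assoc, h1, mul_one]

theorem toL_ofL : (toL n k).comp (ofL n k) = AlgHom.id k _ := by
  apply IsLocalization.algHom_ext (Submonoid.powers (Matrix.det (Matrix.mvPolynomialX (Fin n) (Fin n) k)))
  apply MvPolynomial.algHom_ext
  intro p
  change toL n k (ofL n k (algebraMap _ _ (X p))) = algebraMap _ _ (X p)
  rw [ofL_algebraMap, polyTo, aeval_X, toL, CoordGrp.GLn.pt_X]
  rfl

/-- `O(GL_n) = k[x_ij]_det` -/
noncomputable def equiv : CoordGrp.GLn n k ≃ₐ[k] L n k :=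
  AlgEquiv.ofAlgHom (toL n k) (ofL n k) (toL_ofL n k) (ofL_toL n k)

/-- `O(GL_n)` of the Prelude is a free module over the base ring. -/
theorem free_GLn : Module.Free k (CoordGrp.GLn n k) := by
  have : Module.Free k (L n k) := FreeGL.free_GL (R := k) (n := Fin n) (L n k)
  exact Module.Free.of_equiv (equiv n k).toLinearEquiv.symm

/-- `O(GL_n)` of the Prelude is the localisation of the polynomial ring at the determinant. -/
theorem isLocalization_GLn :
    letI := (polyTo n k).toRingHom.toAlgebra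
    IsLocalization.Away (Matrix.det (Matrix.mvPolynomialX (Fin n) (Fin n) k)) (CoordGrp.GLn n k) := by
  let _ := (polyTo n k).toRingHom.toAlgebra
  refine IsLocalization.isLocalization_of_algEquiv _ (S := L n k) ?_
  refine AlgEquiv.ofRingEquiv (f := (equiv n k).symm.toRingEquiv) ?_
  intro x
  exact ofL_algebraMap n k x

end Groth.Agent.ResProp.EF.K653.FreeGLn
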