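import Groth.Agent.ResProp.EF.Grp
import Groth.Agent.ResProp.EF.K653.FreeGLn
import Groth.Prelude.Def_GLin4

/-!
# `GL_N` as a group over `k` in the sense of `EF/Grp.lean`
-/

set_option autoImplicit false

universe u

namespace Groth.Agent.ResProp.EF.K653

/-- `GL_N` -/
noncomputable def GpGL (N : ℕ) (k : Type u) [CommRing k] : Grp.Gp k where
  O := CoordGrp.GLn N k
  fr := FreeGLn.free_GLn N k

end Groth.Agent.ResProp.EF.K653
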